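import Groth.Agent.H8Props.FieldDimEquidim
import Groth.Agent.H19Grp.HomFlat
import Groth.Agent.H19Grp.GeomConnected
import Groth.Agent.H17.Dim
import Groth.Agent.H05EGA4.Topo

/-!
# Morphisms between irreducible schemes of the same dimension: flat proper ⇔ finite surjective
-/

set_option autoImplicit false
set_option linter.style.haveILetI false
universe u

open CategoryTheory AlgebraicGeometry TopologicalSpace Topology
open Groth.Agent.H8Props.FieldDim

namespace Groth.Agent.H25Grp

variable {k : Type u} [Field k] {X Y : Scheme.{u}} (qX : X ⟶ Spec (CommRingCat.of k))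
  (qY : Y ⟶ Spec (CommRingCat.of k)) [LocallyOfFiniteType qX] [LocallyOfFiniteType qY] (f : X ⟶ Y)

include qX in
theorem exists_nat_dim [IrreducibleSpace X] : ∃ d : ℕ, topologicalKrullDim X = d := by
  obtain ⟨d, hd⟩ := exists_nat_localDim qX (genericPoint X)
  exact ⟨d, (localDim_eq_dim_of_irreducible qX _).symm.trans hd⟩

include qX qY in
theorem isFinite_of_flat [IrreducibleSpace X] [IrreducibleSpace Y] (hf : f ≫ qY = qX) [Flat f] [IsProper f]
    (hdim : topologicalKrullDim X = topologicalKrullDim Y) : IsFinite f := by
  obtain ⟨d, hd⟩ := exists_nat_dim qY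
  have hpure : ∀ (y : Y) (T : Set (f.fiber y)), T ∈ irreducibleComponents (f.fiber y) →
      topologicalKrullDim T = ((0 : ℕ) : WithBot ℕ∞) :=
    fibres_pure_of_source_pure qX qY f hf d 0 (fun y => (localDim_eq_dim_of_irreducible qY y).trans hd)
      fun Z hZ => by
        rw [irreducibleComponents_eq_singleton] at hZ
        rw [hZ, IsHomeomorph.topologicalKrullDim_eq _ (Homeomorph.Set.univ X).isHomeomorph, hdim, hd, add_zero]
  have hfin : ∀ y : Y, (f ⁻¹' {y}).Finite := by
    intro y
    haveI : LocallyOfFiniteType f := locallyOfFiniteType_of_over qX qY f hf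
    rw [← f.range_fiberι y]
    haveI := locallyOfFiniteType_fiberToSpec f y
    haveI : IsLocallyNoetherian (f.fiber y) := LocallyOfFiniteType.isLocallyNoetherian (f.fiberToSpecResidueField y)
    haveI : IsNoetherian (f.fiber y) := {}
    have hT : ∀ T ∈ irreducibleComponents (f.fiber y), T.Subsingleton := by
      intro T hT
      obtain ⟨η, rfl, -⟩ := mem_irreducibleComponents_iff hT
      have hη : cdim η = 0 := (hpure y _ hT).trans Nat.cast_zero
      suffices ∀ x ∈ closure ({η} : Set (f.fiber y)), x = η from fun a ha b hb => (this a ha).trans (this b hb).symm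
      intro x hx
      by_contra hne
      haveI : LocallyOfFiniteType f := locallyOfFiniteType_of_over qX qY f hf
      let q : f.fiber y ⟶ Spec (CommRingCat.of (Y.residueField y)) := f.fiberToSpecResidueField y
      haveI : LocallyOfFiniteType q := locallyOfFiniteType_fiberToSpec f y
      have h1 := cdim_lt q (x := η) (y := x)
        (specializes_iff_mem_closure.mpr hx) (Ne.symm hne)
      obtain ⟨s, hs⟩ := exists_nat_cdim q x
      rw [hη, hs] at h1
      exact absurd h1 (not_lt.mpr (Nat.cast_nonneg' s))
    haveI : Finite (f.fiber y) := by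
      refine Set.finite_univ_iff.mp (Set.Finite.subset
        ((NoetherianSpace.finite_irreducibleComponents (α := f.fiber y)).sUnion fun T hT' => (hT T hT').finite) ?_)
      exact fun x _ => Set.mem_sUnion.mpr
        ⟨_, irreducibleComponent_mem_irreducibleComponents x, mem_irreducibleComponent⟩
    exact Set.finite_range _
  haveI : LocallyQuasiFinite f := locallyQuasiFinite_iff_finite_preimage_singleton.mpr hfin
  exact IsFinite.of_isProper_of_locallyQuasiFinite f

theorem surjective_of_flat [ConnectedSpace Y] [Nonempty X] [IsLocallyNoetherian Y] [Flat f] [IsProper f] :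
    Surjective f := by
  haveI : LocallyOfFinitePresentation f := inferInstance
  have hclopen : IsClopen (Set.range f) := ⟨f.isClosedMap.isClosed_range, f.isOpenMap.isOpen_range⟩
  exact ⟨fun y => (hclopen.eq_univ (Set.range_nonempty _)).symm.subset (Set.mem_univ y)⟩

include qX qY in
theorem surjective_of_finite [IrreducibleSpace X] [IrreducibleSpace Y] [IsFinite f]
    (hdim : topologicalKrullDim X = topologicalKrullDim Y) : Surjective f := by
  set y := f (genericPoint X) with hy
  have hrange : Set.range f ⊆ closure ({y} : Set Y) := by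
    rintro _ ⟨x, rfl⟩
    exact specializes_iff_mem_closure.mp ((genericPoint_specializes x).map f.continuous)
  haveI : QuasiSober (closure ({y} : Set Y)) := isClosed_closure.isClosedEmbedding_subtypeVal.quasiSober
  have h1 : topologicalKrullDim X ≤ cdim y :=
    H17.topologicalKrullDim_le_of_noSpecializationsInFibres (fun x => (⟨f x, hrange ⟨x, rfl⟩⟩ : closure ({y} : Set Y)))
      (f.continuous.subtype_mk _) fun a b h e =>
        H05EGA4.eq_of_specializes_of_fibre f h (congrArg Subtype.val e)
  have hgen : y = genericPoint Y := by
    by_contra hne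
    obtain ⟨d, hd⟩ := exists_nat_dim qY
    have h2 := cdim_lt qY (genericPoint_specializes y) (Ne.symm hne)
    have h3 : cdim (genericPoint Y) ≤ topologicalKrullDim Y := IsEmbedding.subtypeVal.isInducing.topologicalKrullDim_le
    exact absurd (h2.trans_le h3) (not_lt.mpr (hdim ▸ h1))
  refine ⟨fun z => ?_⟩
  exact f.isClosedMap.isClosed_range.closure_subset_iff.mpr
    (Set.singleton_subset_iff.mpr ⟨_, hgen⟩) (genericPoint_specializes z).mem_closure

theorem irreducibleSpace_group {G : Over (Spec (CommRingCat.of k))} [GrpObj G] [LocallyOfFiniteType G.hom]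
    [GeometricallyConnected G.hom] : IrreducibleSpace G.left :=
  haveI := H19Grp.geometricallyIrreducible_of_geometricallyConnected G
  GeometricallyIrreducible.irreducibleSpace_of_subsingleton G.hom

end Groth.Agent.H25Grp
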